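import Cfsg.Agent.Lib.Comp.XG.Base

set_option maxRecDepth 100000
set_option Elab.async false

namespace Cfsg.Lib.Comp.XG

universe u

noncomputable def T0_R : List (List ℕ × ℕ) := [([1],3),
 ([1,1,4,4],0),
 ([1,1,6,6],0),
 ([1,1,8,8],0),
 ([1,3,1,4],0),
 ([5,7,5,8],0),
 ([1,5,2,6],0),
 ([1,7,2,8],0),
 ([3,5,4,6],0),
 ([3,7,4,8],0),
 ([9],2),
 ([9,1,10,4],0),
 ([9,3,10,4,2],0),
 ([9,5,10,8],0),
 ([9,7,10,8,6],0),
 ([11],1),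
 ([11,9],1),
 ([11,1],1),
 ([11,5],1),
 ([12],2),
 ([12,1,13,4],0),
 ([12,3,13,4,2],0),
 ([12,5,13,6],0),
 ([12,7,13,8],0),
 ([12,9,13,10],0),
 ([11,12],1),
 ([1,2],0),
 ([3,4],0),
 ([5,6],0),
 ([7,8],0),
 ([9,10],0),
 ([12,13],0)]

noncomputable def T0_n_11 : Net :=
 (Net.cons 1 (nat_lit 0x2)
 Net.nil)

noncomputable def T0_n_12 : Net :=
 (Net.cons 1 (nat_lit 0x2)
 (Net.cons 1 (nat_lit 0x1)
 Net.nil))

noncomputable def T0_n : List Net := [Net.nil,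
 Net.nil,
 Net.nil,
 Net.nil,
 Net.nil,
 Net.nil,
 Net.nil,
 Net.nil,
 Net.nil,
 Net.nil,
 Net.nil,
 T0_n_11,
 T0_n_12,
 Net.rev T0_n_12]

theorem T0_n_ok : NetsOK 3 T0_n := netsOK_of (by decide +kernel)

theorem T0_n_rel : Rels (gp T0_n) T0_R := rels_of_relsB (k := 2) T0_n_ok (by norm_num) (by decide +kernel)

theorem T0_fin : finB 3 T0_n [1,2,3,4,5,6,7,8,9,10,11,12,13] 3 (runH 3 T0_n (fun x p => ptInv (nth Net.nil T0_n x) p) iv T0_R [] ([1,2,3,4,5,6,7,8,9,10,11].map fun x => [x]) 0 []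
  [1,5,9,13,17,21,25,29,33,37,41,124,76,80,84,88,92,96,100,104,108,112,116,120,124,60]
  (defsH 3 T0_n (ones 42) [12,13] (Nat.shiftLeft 1 0) 0)) = true := by decide +kernel

theorem T0_idx : Idx.{u} iv (T0_R ++ []) ([1,2,3,4,5,6,7,8,9,10,11].map fun x => [x]) [1,2,3,4,5,6,7,8,9,10,11,12,13] 3 :=
  Reach.idx T0_n_ok (reach_runH T0_n_ok (fun x p _ => ptInv_gp T0_n_ok x p) T0_n_rel (reach_defsH T0_n_ok _ _ _ _ _ _) _ _) T0_fin (by norm_num)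

end Cfsg.Lib.Comp.XG
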