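import Cfsg.Agent.Lib.Comp.XG.Base

set_option maxRecDepth 100000
set_option Elab.async false

namespace Cfsg.Lib.Comp.XG

universe u

noncomputable def nets_1 : Net :=
 (Net.cons 12 (nat_lit 0x210)
 (Net.cons 6 (nat_lit 0x6020)
 (Net.cons 3 (nat_lit 0x104004)
 (Net.cons 1 (nat_lit 0x49248)
 (Net.cons 1 (nat_lit 0x412492)
 (Net.cons 1 (nat_lit 0x201001)
 (Net.cons 3 (nat_lit 0x46045)
 (Net.cons 6 (nat_lit 0x23015)
 (Net.cons 12 (nat_lit 0xf5a)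
 Net.nil)))))))))

noncomputable def nets_3 : Net :=
 (Net.cons 12 (nat_lit 0x798)
 (Net.cons 6 (nat_lit 0x22020)
 (Net.cons 3 (nat_lit 0x186)
 (Net.cons 1 (nat_lit 0x248049)
 (Net.cons 1 (nat_lit 0x482082)
 (Net.cons 1 (nat_lit 0x1001)
 (Net.cons 3 (nat_lit 0xc10c0)
 (Net.cons 6 (nat_lit 0x9032)
 (Net.cons 12 (nat_lit 0xa84)
 Net.nil)))))))))

noncomputable def nets_5 : Net :=
 (Net.cons 12 (nat_lit 0x6a2)
 (Net.cons 6 (nat_lit 0x1c)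
 (Net.cons 3 (nat_lit 0x100100)
 (Net.cons 1 (nat_lit 0x249249)
 (Net.cons 1 (nat_lit 0x92090)
 (Net.cons 1 (nat_lit 0x1048)
 (Net.cons 3 (nat_lit 0x841c6)
 (Net.cons 6 (nat_lit 0x2201a)
 (Net.cons 12 (nat_lit 0xa78)
 Net.nil)))))))))

noncomputable def nets_7 : Net :=
 (Net.cons 12 (nat_lit 0xd42)
 (Net.cons 6 (nat_lit 0x200c)
 (Net.cons 3 (nat_lit 0x100100)
 (Net.cons 1 (nat_lit 0x240009)
 (Net.cons 1 (nat_lit 0x92492)
 (Net.cons 1 (nat_lit 0x49048)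
 (Net.cons 3 (nat_lit 0x87040)
 (Net.cons 6 (nat_lit 0x1d020)
 (Net.cons 12 (nat_lit 0x6f5)
 Net.nil)))))))))

noncomputable def nets_9 : Net :=
 (Net.cons 12 (nat_lit 0x1fc)
 (Net.cons 6 (nat_lit 0x3203a)
 (Net.cons 3 (nat_lit 0x180180)
 (Net.cons 1 (nat_lit 0x40009)
 (Net.cons 1 (nat_lit 0x82092)
 (Net.cons 1 (nat_lit 0x49)
 (Net.cons 3 (nat_lit 0x182000)
 (Net.cons 6 (nat_lit 0x12032)
 (Net.cons 12 (nat_lit 0x18d)
 Net.nil)))))))))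

noncomputable def nets_11 : Net :=
 (Net.cons 12 (nat_lit 0x7f0)
 (Net.cons 6 (nat_lit 0x4002)
 (Net.cons 3 (nat_lit 0x102)
 (Net.cons 1 (nat_lit 0x49208)
 (Net.cons 1 (nat_lit 0x92092)
 (Net.cons 1 (nat_lit 0x49040)
 (Net.cons 3 (nat_lit 0x1830c4)
 (Net.cons 6 (nat_lit 0x3300c)
 (Net.cons 12 (nat_lit 0xef8)
 Net.nil)))))))))

noncomputable def nets_12 : Net :=
 (Net.cons 12 (nat_lit 0x498)
 (Net.cons 6 (nat_lit 0x2a010)
 (Net.cons 3 (nat_lit 0x184100)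
 (Net.cons 1 (nat_lit 0x201249)
 (Net.cons 1 (nat_lit 0x90492)
 (Net.cons 1 (nat_lit 0x48)
 (Net.cons 3 (nat_lit 0x84080)
 (Net.cons 6 (nat_lit 0x13020)
 (Net.cons 12 (nat_lit 0x9a8)
 Net.nil)))))))))

noncomputable def nets_64 : Net :=
 (Net.cons 12 (nat_lit 0xc00)
 (Net.cons 6 (nat_lit 0x30000)
 (Net.cons 3 (nat_lit 0x100004)
 (Net.cons 1 (nat_lit 0x200048)
 (Net.cons 1 (nat_lit 0x480402)
 (Net.cons 1 (nat_lit 0x40000)
 (Net.cons 3 (nat_lit 0xc3004)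
 (Net.cons 6 (nat_lit 0x30004)
 (Net.cons 12 (nat_lit 0xc00)
 Net.nil)))))))))

noncomputable def nets_65 : Net :=
 (Net.cons 12 (nat_lit 0xa20)
 (Net.cons 6 (nat_lit 0x2e000)
 (Net.cons 3 (nat_lit 0x186002)
 (Net.cons 1 (nat_lit 0x201240)
 (Net.cons 1 (nat_lit 0x482090)
 (Net.cons 1 (nat_lit 0x40048)
 (Net.cons 3 (nat_lit 0x144002)
 (Net.cons 6 (nat_lit 0x2d00c)
 (Net.cons 12 (nat_lit 0xe08)
 Net.nil)))))))))

noncomputable def nets_67 : Net :=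
 (Net.cons 12 (nat_lit 0x600)
 (Net.cons 6 (nat_lit 0x30000)
 (Net.cons 1 (nat_lit 0x49248)
 (Net.cons 1 (nat_lit 0x92490)
 (Net.cons 3 (nat_lit 0x5000)
 (Net.cons 6 (nat_lit 0x30000)
 (Net.cons 12 (nat_lit 0xa00)
 Net.nil)))))))

noncomputable def nets : List Net := (apd [Net.nil,
 nets_1,
 Net.rev nets_1,
 nets_3,
 Net.rev nets_3,
 nets_5,
 Net.rev nets_5,
 nets_7,
 Net.rev nets_7,
 nets_9,
 Net.rev nets_9,
 nets_11,
 nets_12,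
 Net.rev nets_12,
 Net.nil,
 Net.nil,
 Net.nil,
 Net.nil,
 Net.nil,
 Net.nil,
 Net.nil,
 Net.nil,
 Net.nil,
 Net.nil,
 Net.nil,
 Net.nil,
 Net.nil,
 Net.nil,
 Net.nil,
 Net.nil,
 Net.nil,
 Net.nil,
 Net.nil,
 Net.nil,
 Net.nil,
 Net.nil,
 Net.nil,
 Net.nil,
 Net.nil,
 Net.nil]
 [Net.nil,
 Net.nil,
 Net.nil,
 Net.nil,
 Net.nil,
 Net.nil,
 Net.nil,
 Net.nil,
 Net.nil,
 Net.nil,
 Net.nil,
 Net.nil,
 Net.nil,
 Net.nil,
 Net.nil,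
 Net.nil,
 Net.nil,
 Net.nil,
 Net.nil,
 Net.nil,
 Net.nil,
 Net.nil,
 Net.nil,
 Net.nil,
 nets_64,
 nets_65,
 Net.rev nets_65,
 nets_67,
 Net.rev nets_67])

theorem nets_ok : NetsOK 24 nets := netsOK_of (by decide +kernel)

theorem nets_rel : Rels (gp nets) R := rels_of_relsB (k := 5) nets_ok (by norm_num) (by decide +kernel)

theorem nets_iv : IvOK (gp nets) iv := ivOK_of_ivB (k := 5) nets_ok (by norm_num) (by decide +kernel)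

noncomputable def slp : List (ℕ × List ℕ) := [(64,[1,3,8,1]),
 (65,[9,4]),
 (66,[3,10]),
 (67,[65,64]),
 (68,[64,66])]

theorem slp_ok : slpB 24 5 nets slp L = true := by decide +kernel

theorem mem_all {x : ℕ} (h : x ∈ L ++ slp.map (·.1)) : gp nets x ∈ cl (gp nets) L :=
  cl_eq_of_slpB nets_ok (by norm_num) slp_ok ▸ mem_cl h

theorem lb : 576 ≤ Nat.card (cl (gp nets) L) := by
  rw [← cl_eq_of_slpB nets_ok (by norm_num) slp_ok]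
  exact lb_of_chainB nets_ok (C := [([11,64,65,66,67,68],[1,3,12,11,1,1],0,0,24),
 ([67,68],[11,64,11,64],1,1,8),
 ([],[67,67],10,10,3)]) (by decide +kernel)

end Cfsg.Lib.Comp.XG
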